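import Mathlib

/-!
# Extension from a subterminal object: the unit `F ⟶ j^* j_! F` is an isomorphism
-/

universe v u w

open CategoryTheory CategoryTheory.Limits

namespace Groth.Agent.OverSub

theorem forget_full {C : Type u} [Category.{v} C] {U : C} (hU : ∀ V : C, Subsingleton (V ⟶ U)) :
    (Over.forget U).Full where
  map_surjective {X Y} g := ⟨Over.homMk g ((hU X.left).elim _ _), rfl⟩

theorem isIso_counit {C : Type u} [Category.{v} C] (J : GrothendieckTopology C) {U : C}
    (hU : ∀ V : C, Subsingleton (V ⟶ U)) (A : Type w) [Category.{max u v} A] [HasLimitsOfSize.{v, max u v} A] :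
    IsIso ((Over.forget U).sheafAdjunctionCocontinuous A (J.over U) J).counit := by
  haveI := forget_full hU
  rw [NatTrans.isIso_iff_isIso_app]
  intro Y
  refine @isIso_of_reflects_iso _ _ _ _ _ _ _ (sheafToPresheaf (J.over U) A) ?_ _
  show IsIso ((Over.forget U).sheafAdjunctionCocontinuous A (J.over U) J |>.counit.app Y).hom
  rw [Functor.sheafAdjunctionCocontinuous_counit_app_hom]
  haveI : (Over.forget U).op.Faithful := inferInstance
  haveI : ∀ F : (Over U)ᵒᵖ ⥤ A, (Over.forget U).op.HasPointwiseRightKanExtension F := fun F => inferInstance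
  haveI : (Over.forget U).op.Full := inferInstance
  haveI h : IsIso ((Over.forget U).op.ranAdjunction A).counit := inferInstance
  exact (NatTrans.isIso_iff_isIso_app _).1 h Y.obj

theorem isIso_unit {C : Type u} [Category.{v} C] (J : GrothendieckTopology C) {U : C}
    (hU : ∀ V : C, Subsingleton (V ⟶ U)) (A : Type w) [Category.{max u v} A] [HasLimitsOfSize.{v, max u v} A]
    [((Over.forget U).sheafPushforwardContinuous A (J.over U) J).IsRightAdjoint] :
    IsIso ((Over.forget U).sheafAdjunctionContinuous A (J.over U) J).unit :=
  (Adjunction.Triple.mk ((Over.forget U).sheafAdjunctionContinuous A (J.over U) J)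
    ((Over.forget U).sheafAdjunctionCocontinuous A (J.over U) J)).isIso_unit_iff_isIso_counit.2 (isIso_counit J hU A)

end Groth.Agent.OverSub
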